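import Mathlib.RingTheory.Valuation.ValuationRing
import Mathlib.RingTheory.Polynomial.GaussLemma
import Mathlib.RingTheory.Flat.Basic
import Mathlib.RingTheory.DedekindDomain.IntegralClosure
import Mathlib.RingTheory.TensorProduct.Basic
import Mathlib.RingTheory.Nilpotent.Lemmas
import Mathlib.RingTheory.PowerBasis
import Mathlib.Algebra.GCDMonoid.IntegrallyClosed
import Mathlib.RingTheory.Bezout

/-!
# Dense extensions of valuation rings
-/

set_option autoImplicit false

universe u

open TensorProduct Polynomial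

namespace Groth.Agent.ValR29

variable {A K A' K' : Type u} [CommRing A] [IsDomain A] [ValuationRing A] [Field K] [Algebra A K]
  [IsFractionRing A K] [CommRing A'] [IsDomain A'] [ValuationRing A'] [Field K'] [Algebra A' K']
  [IsFractionRing A' K'] [Algebra A A'] [Algebra K K'] [Algebra A K'] [IsScalarTower A A' K']
  [IsScalarTower A K K']

theorem mem_of_map_mem [IsLocalHom (algebraMap A A')] {c : K} {a' : A'}
    (h : algebraMap K K' c = algebraMap A' K' a') : ∃ a : A, algebraMap A K a = c := by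
  rcases ValuationRing.isInteger_or_isInteger A c with ⟨a, ha⟩ | ⟨a₀, ha₀⟩
  · exact ⟨a, ha⟩
  by_cases hc : c = 0
  · exact ⟨0, by rw [map_zero, hc]⟩
  have h1 : algebraMap A A' a₀ * a' = 1 := IsFractionRing.injective A' K' (by
    rw [map_mul, map_one, ← IsScalarTower.algebraMap_apply, IsScalarTower.algebraMap_apply A K K', ha₀, ← h,
      ← map_mul, inv_mul_cancel₀ hc, map_one])
  obtain ⟨u, rfl⟩ := (isUnit_map_iff (algebraMap A A') a₀).mp (IsUnit.of_mul_eq_one a' h1)
  exact ⟨↑u⁻¹, by
    rw [← inv_inv c, ← ha₀]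
    exact eq_inv_of_mul_eq_one_left (by rw [← map_mul, Units.inv_mul, map_one])⟩

/-- Approximation of an element of `K'` by an element of `K`. -/
theorem exists_approx [IsLocalHom (algebraMap A A')]
    (hdense : ∀ a' b' : A', b' ≠ 0 → ∃ a : A, b' ∣ a' - algebraMap A A' a)
    (c' : K') {δ : A'} (hδ : δ ≠ 0) :
    ∃ (c : K) (a' : A'), c' - algebraMap K K' c = algebraMap A' K' (δ * a') := by
  rcases ValuationRing.isInteger_or_isInteger A' c' with ⟨x, rfl⟩ | ⟨w, hw⟩
  · obtain ⟨a, a', ha⟩ := hdense x δ hδ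
    exact ⟨algebraMap A K a, a', by
      rw [← IsScalarTower.algebraMap_apply, IsScalarTower.algebraMap_apply A A' K', ← map_sub, ha]⟩
  by_cases hc : c' = 0
  · exact ⟨0, 0, by simp [hc]⟩
  by_cases hwu : IsUnit w
  · obtain ⟨u, rfl⟩ := hwu
    obtain ⟨a, a', ha⟩ := hdense ↑u⁻¹ δ hδ
    refine ⟨algebraMap A K a, a', ?_⟩
    have : c' = algebraMap A' K' ↑u⁻¹ := by
      rw [← inv_inv c', ← hw]
      exact (eq_inv_of_mul_eq_one_left (by rw [← map_mul, Units.inv_mul, map_one])).symm
    rw [this, ← IsScalarTower.algebraMap_apply, IsScalarTower.algebraMap_apply A A' K', ← map_sub, ha]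
  have hwne : algebraMap A' K' w ≠ 0 := by rw [hw]; exact inv_ne_zero hc
  have hw0 : w ≠ 0 := fun h => hwne (by rw [h, map_zero])
  obtain ⟨a, m, ha⟩ := hdense w (w ^ 2 * δ) (mul_ne_zero (pow_ne_zero 2 hw0) hδ)
  have hu : IsUnit (1 - w * δ * m) :=
    IsLocalRing.isUnit_one_sub_self_of_mem_nonunits _ fun h => hwu (by
      rw [mul_assoc] at h; exact isUnit_of_mul_isUnit_left h)
  obtain ⟨u, hu⟩ := hu
  have hmap : algebraMap A A' a = w * u := by rw [hu]; linear_combination -ha
  have hane : algebraMap K K' (algebraMap A K a) = algebraMap A' K' (w * u) := by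
    rw [← IsScalarTower.algebraMap_apply, IsScalarTower.algebraMap_apply A A' K', hmap]
  have hu0 : algebraMap A' K' (↑u : A') ≠ 0 := (u.isUnit.map (algebraMap A' K')).ne_zero
  refine ⟨(algebraMap A K a)⁻¹, -(m * ↑u⁻¹), ?_⟩
  have hinv : algebraMap A' K' ↑u⁻¹ = (algebraMap A' K' (↑u : A'))⁻¹ :=
    eq_inv_of_mul_eq_one_left (by rw [← map_mul, Units.inv_mul, map_one])
  have hval : algebraMap A' K' (↑u : A') =
      1 - algebraMap A' K' w * algebraMap A' K' δ * algebraMap A' K' m := by simp [hu]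
  have hc' : c' = (algebraMap A' K' w)⁻¹ := by rw [hw, inv_inv]
  rw [map_inv₀, hane, hc', map_mul, map_mul, map_neg, map_mul, hinv]
  field_simp
  linear_combination hval

variable (K') in
theorem dvd_of_aeval_one_tmul {L : Type u} [Field L] [Algebra K L] {l : L} {g : K[X]} (hg : g.Monic)
    (hd : g.natDegree = (minpoly K l).natDegree) (h0 : aeval l g = 0) {Q : K'[X]}
    (hQ : aeval ((1 : K') ⊗ₜ[K] l) Q = 0) : g.map (algebraMap K K') ∣ Q := by
  have hgm := hg.map (algebraMap K K')
  rw [← (modByMonic_eq_zero_iff_dvd hgm)]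
  have hgl : aeval ((1 : K') ⊗ₜ[K] l) (g.map (algebraMap K K')) = 0 := by
    rw [aeval_map_algebraMap, show ((1 : K') ⊗ₜ[K] l) = (Algebra.TensorProduct.includeRight : L →ₐ[K] K' ⊗[K] L) l from rfl,
      aeval_algHom_apply, h0, map_zero]
  have hr : aeval ((1 : K') ⊗ₜ[K] l) (Q %ₘ g.map (algebraMap K K')) = 0 := by
    rw [modByMonic_eq_sub_mul_div Q _, map_sub, map_mul, hgl, hQ]
    simp
  have hli := Module.Flat.linearIndependent_one_tmul (S := K') (linearIndependent_pow (K := K) l)
  by_contra hne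
  have hdeg : (Q %ₘ g.map (algebraMap K K')).natDegree < (minpoly K l).natDegree := by
    rw [← hd, ← hg.natDegree_map (algebraMap K K')]
    refine natDegree_lt_natDegree hne (degree_modByMonic_lt Q hgm)
  rw [aeval_eq_sum_range' hdeg, ← Fin.sum_univ_eq_sum_range
    (fun i => (Q %ₘ g.map (algebraMap K K')).coeff i • ((1 : K') ⊗ₜ[K] l) ^ i)] at hr
  have hz := Fintype.linearIndependent_iff.mp hli (fun i => (Q %ₘ g.map (algebraMap K K')).coeff i) (by
    rw [← hr]
    exact Finset.sum_congr rfl fun i _ => by rw [Algebra.TensorProduct.tmul_pow, one_pow])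
  refine hne (Polynomial.ext fun i => ?_)
  by_cases hi : i < (minpoly K l).natDegree
  · simpa using hz ⟨i, hi⟩
  · rw [coeff_zero]; exact coeff_eq_zero_of_natDegree_lt (by omega)

theorem isIntegral_of_isIntegral_tensor [IsLocalHom (algebraMap A A')] {L : Type u} [Field L] [Algebra K L]
    [FiniteDimensional K L] [Algebra A L] [IsScalarTower A K L] {l : L} {F : A'[X]} (hF : F.Monic)
    (hl : IsNilpotent ((F.map (algebraMap A' K')).aeval ((1 : K') ⊗ₜ[K] l))) : IsIntegral A l := by
  obtain ⟨N, hN⟩ := hl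
  rw [← map_pow, ← Polynomial.map_pow] at hN
  have hint : IsIntegral K l := IsIntegral.of_finite K l
  have hdvd := dvd_of_aeval_one_tmul K' (minpoly.monic hint) rfl (minpoly.aeval K l) hN
  classical
  haveI : IsIntegrallyClosed A' := by
    letI := IsBezout.toGCDDomain A'
    infer_instance
  obtain ⟨g', hg'⟩ := IsIntegrallyClosed.eq_map_mul_C_of_dvd K' (hF.pow N) hdvd
  rw [((minpoly.monic hint).map (algebraMap K K')).leadingCoeff, map_one, mul_one] at hg'
  have hlift : minpoly K l ∈ lifts (algebraMap A K) := by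
    rw [lifts_iff_coeff_lifts]
    intro i
    have := congrArg (fun p => coeff p i) hg'
    simp only [coeff_map] at this
    exact mem_of_map_mem this.symm
  obtain ⟨P, hP, -, hPm⟩ := lifts_and_degree_eq_and_monic hlift (minpoly.monic hint)
  exact ⟨P, hPm, by rw [← aeval_def, ← aeval_map_algebraMap K, hP, minpoly.aeval]⟩

end Groth.Agent.ValR29
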